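import Groth.Agent.L15.SemiNorm
import Groth.Agent.L01.Regular
import Groth.Agent.L03.RegularNormal
import Mathlib.RingTheory.TensorProduct.Basic
import Mathlib.RingTheory.Localization.AtPrime.Basic

/-!
# The conductor square of a seminormal ring of dimension one

`A → B` is a finite birational extension of reduced rings, `A` is seminormal, and `I` is a radical
ideal whose zero set is the set of non-regular primes, all of which are maximal.
-/

set_option autoImplicit false
set_option linter.style.haveILetI false

universe u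

open scoped TensorProduct

namespace Groth.L21.SemiCurve

variable {A B : Type u} [CommRing A] [CommRing B] [Algebra A B]

variable (A) in
/-- The elements of `B` which multiply `B` into the image of `A`. -/
def InCond (c : B) : Prop :=
  ∀ b : B, c * b ∈ (algebraMap A B).range

theorem mem_range_of_pow [IsReduced B] (hA : HTop.IsSeminormalRing A)
    (hinj : Function.Injective (algebraMap A B)) {u : B} (n : ℕ)
    (h : ∀ m, n ≤ m → u ^ m ∈ (algebraMap A B).range) : u ∈ (algebraMap A B).range := by
  induction n with
  | zero => simpa using h 1 (Nat.zero_le 1)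
  | succ n ih =>
    refine ih fun m hm => ?_
    rcases eq_or_lt_of_le hm with rfl | hm'
    · rcases Nat.eq_zero_or_pos n with rfl | hn
      · rw [pow_zero]; exact one_mem _
      · refine Groth.L15.SemiNorm.mem_range_of_sq_cube hA hinj ?_ ?_
        · rw [← pow_mul]; exact h _ (by omega)
        · rw [← pow_mul]; exact h _ (by omega)
    · exact h m hm'

theorem inCond_of_pow [IsReduced B] (hA : HTop.IsSeminormalRing A)
    (hinj : Function.Injective (algebraMap A B)) {c : B} (n : ℕ) (h : InCond A (c ^ n)) : InCond A c := by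
  intro b
  refine mem_range_of_pow hA hinj n fun m hm => ?_
  have e : (c * b) ^ m = c ^ n * (c ^ (m - n) * b ^ m) := by
    rw [mul_pow, ← mul_assoc, ← pow_add, Nat.add_sub_cancel' hm]
  rw [e]
  exact h _

/-- Near a regular prime the extension is trivial. -/
theorem exists_notMem_inCond [IsNoetherianRing A] [Module.Finite A B]
    (hinj : Function.Injective (algebraMap A B)) {s : A}
    (hsB : ∀ b : B, algebraMap A B s * b = 0 → b = 0)
    (hs : ∀ b : B, ∃ n : ℕ, algebraMap A B s ^ n * b ∈ (algebraMap A B).range)
    (p : Ideal A) [p.IsPrime] [IsRegularLocalRing (Localization.AtPrime p)] :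
    ∃ t : A, t ∉ p ∧ InCond A (algebraMap A B t) := by
  haveI : IsDomain (Localization.AtPrime p) := Groth.L01.isDomain_of_regular _
  haveI : IsIntegrallyClosed (Localization.AtPrime p) := Groth.L03.RegularNormal.isIntegrallyClosed _
  let L := Localization.AtPrime p
  have hsA : ∀ a : A, s * a = 0 → a = 0 := fun a ha =>
    hinj (by rw [map_zero]; exact hsB _ (by rw [← map_mul, ha, map_zero]))
  have hsne : algebraMap A L s ≠ 0 := by
    intro h
    obtain ⟨⟨u, hu⟩, hus⟩ := (IsLocalization.map_eq_zero_iff p.primeCompl L s).1 h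
    have := hsA u (by rw [mul_comm]; exact hus)
    exact hu (this ▸ p.zero_mem)
  have key : ∀ b : B, ∃ t : A, t ∉ p ∧ algebraMap A B t * b ∈ (algebraMap A B).range := by
    intro b
    obtain ⟨n, a, ha⟩ := hs b
    let K := FractionRing L
    have hsK : algebraMap L K (algebraMap A L s) ≠ 0 := by
      rwa [ne_eq, IsFractionRing.to_map_eq_zero_iff]
    let f : A →+* K := (algebraMap L K).comp (algebraMap A L)
    let x : K := f a / f s ^ n
    obtain ⟨P, hP, hPb⟩ := Algebra.IsIntegral.isIntegral (R := A) b
    have h0 : Polynomial.eval₂ f (f a) (P.scaleRoots (s ^ n)) = 0 := by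
      have h1 : Polynomial.eval₂ (algebraMap A B) (algebraMap A B (s ^ n) * b) (P.scaleRoots (s ^ n)) = 0 :=
        Polynomial.scaleRoots_eval₂_eq_zero _ hPb
      rw [map_pow, ← ha, Polynomial.eval₂_at_apply] at h1
      rw [Polynomial.eval₂_at_apply, hinj (h1.trans (map_zero _).symm), map_zero]
    have hx : Polynomial.eval₂ f x P = 0 := by
      have h2 : Polynomial.eval₂ f (f (s ^ n) * x) (P.scaleRoots (s ^ n)) = 0 := by
        rw [show f (s ^ n) * x = f a by
          rw [map_pow]; exact mul_div_cancel₀ _ (pow_ne_zero _ hsK)]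
        exact h0
      rw [Polynomial.scaleRoots_eval₂_mul] at h2
      exact (mul_eq_zero.1 h2).resolve_left (pow_ne_zero _ (by rw [map_pow]; exact pow_ne_zero _ hsK))
    have hint : IsIntegral L x := by
      refine ⟨P.map (algebraMap A L), hP.map _, ?_⟩
      rw [Polynomial.eval₂_map]
      exact hx
    obtain ⟨e, he⟩ := IsIntegrallyClosed.isIntegral_iff.1 hint
    obtain ⟨⟨e₀, t⟩, het⟩ := IsLocalization.surj p.primeCompl e
    have hAK : Function.Injective (algebraMap L K) := IsFractionRing.injective L K
    have h3 : algebraMap A L (a * t) = algebraMap A L (s ^ n * e₀) := by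
      apply hAK
      rw [map_mul, map_mul (algebraMap A L) (s ^ n), ← het]
      simp only [map_mul, he]
      show f a * f t = f (s ^ n) * (x * f t)
      rw [← mul_assoc, show f (s ^ n) * x = f a by rw [map_pow]; exact mul_div_cancel₀ _ (pow_ne_zero _ hsK)]
    obtain ⟨u, hu⟩ := (IsLocalization.eq_iff_exists p.primeCompl L).1 h3
    refine ⟨u * t, fun h => (Ideal.IsPrime.mem_or_mem ‹_› h).elim u.2 t.2, (u : A) * e₀, ?_⟩
    have hu' := congrArg (algebraMap A B) hu
    have hsn : ∀ (m : ℕ) (c : B), algebraMap A B s ^ m * c = 0 → c = 0 := by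
      intro m
      induction m with
      | zero => intro c hc; simpa using hc
      | succ m ih => intro c hc; rw [pow_succ', mul_assoc] at hc; exact ih _ (hsB _ hc)
    refine sub_eq_zero.1 (hsn n _ ?_)
    simp only [map_mul, map_pow] at hu' ha ⊢
    linear_combination (algebraMap A B u * algebraMap A B t) * ha - hu'
  classical
  obtain ⟨S, hS⟩ := (Module.Finite.fg_top : (⊤ : Submodule A B).FG)
  choose t ht htb using key
  refine ⟨∏ b ∈ S, t b, fun h => ?_, fun b => ?_⟩
  · obtain ⟨b, -, hb⟩ := (Ideal.IsPrime.prod_mem_iff).1 h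
    exact ht b hb
  · have hb : b ∈ Submodule.span A (S : Set B) := hS ▸ Submodule.mem_top
    induction hb using Submodule.span_induction with
    | mem x hx =>
      rw [← Finset.mul_prod_erase S t hx, map_mul, mul_comm (algebraMap A B (t x)), mul_assoc]
      exact mul_mem ⟨_, rfl⟩ (htb x)
    | zero => rw [mul_zero]; exact zero_mem _
    | add x y _ _ hx hy => rw [mul_add]; exact add_mem hx hy
    | smul r x _ hx => rw [Algebra.smul_def, mul_left_comm]; exact mul_mem ⟨r, rfl⟩ hx

variable [IsNoetherianRing A] [Module.Finite A B] [IsReduced B]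
  (hA : HTop.IsSeminormalRing A) (hinj : Function.Injective (algebraMap A B)) {s : A}
  (hsB : ∀ b : B, algebraMap A B s * b = 0 → b = 0)
  (hs : ∀ b : B, ∃ n : ℕ, algebraMap A B s ^ n * b ∈ (algebraMap A B).range)
  (I : Ideal A) (hI : I.IsRadical)
  (hV : ∀ (p : Ideal A) [p.IsPrime], ¬ IsRegularLocalRing (Localization.AtPrime p) → I ≤ p)

include hA hinj hsB hs hV in
theorem inCond_of_mem {a : A} (ha : a ∈ I) : InCond A (algebraMap A B a) := by
  let C : Ideal A :=
    { carrier := {a | InCond A (algebraMap A B a)}
      zero_mem' := fun b => by rw [map_zero, zero_mul]; exact zero_mem _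
      add_mem' := fun {a c} ha hc b => by rw [map_add, add_mul]; exact add_mem (ha b) (hc b)
      smul_mem' := fun r a ha b => by
        rw [smul_eq_mul, map_mul, mul_assoc]; exact mul_mem ⟨r, rfl⟩ (ha b) }
  have hrad : a ∈ C.radical := by
    rw [Ideal.radical_eq_sInf, Submodule.mem_sInf]
    rintro p ⟨hCp, hp⟩
    haveI := hp
    refine hV p (fun hreg => ?_) ha
    obtain ⟨t, ht, htC⟩ := exists_notMem_inCond hinj hsB hs p
    exact ht (hCp htC)
  obtain ⟨n, hn⟩ := hrad
  exact inCond_of_pow hA hinj n (by rw [← map_pow]; exact hn)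

include hA hinj hsB hs hV in
theorem inCond_of_mem_map {c : B} (hc : c ∈ I.map (algebraMap A B)) : InCond A c := by
  induction hc using Submodule.span_induction with
  | mem x hx =>
    obtain ⟨a, ha, rfl⟩ := hx
    exact inCond_of_mem hA hinj hsB hs I hV ha
  | zero => intro b; rw [zero_mul]; exact zero_mem _
  | add x y _ _ hx hy => intro b; rw [add_mul]; exact add_mem (hx b) (hy b)
  | smul r x _ hx => intro b; rw [smul_eq_mul, mul_comm r, mul_assoc]; exact hx _

include hinj hI in
theorem mem_of_pow_mem_map {a : A} {n : ℕ} (h : algebraMap A B a ^ n ∈ I.map (algebraMap A B)) : a ∈ I := by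
  haveI : Algebra.IsIntegral A B := inferInstance
  rw [← hI.radical, Ideal.radical_eq_sInf, Submodule.mem_sInf]
  rintro p ⟨hIp, hp⟩
  haveI := hp
  obtain ⟨q, -, hq, rfl⟩ := Ideal.exists_ideal_over_prime_of_isIntegral p (⊥ : Ideal B) (by
    rw [← RingHom.ker_eq_comap_bot, (RingHom.injective_iff_ker_eq_bot _).1 hinj]; exact bot_le)
  exact hq.mem_of_pow_mem n (Ideal.map_le_iff_le_comap.2 hIp h)

include hA hinj hsB hs hI hV in
theorem isRadical_map : (I.map (algebraMap A B)).IsRadical := by
  rintro c ⟨n, hn⟩
  obtain ⟨a, ha⟩ := inCond_of_pow hA hinj n (inCond_of_mem_map hA hinj hsB hs I hV hn) 1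
  rw [mul_one] at ha
  rw [← ha] at hn ⊢
  exact Ideal.mem_map_of_mem _ (mem_of_pow_mem_map hinj I hI hn)

include hA hinj hsB hs hI hV in
/-- The conductor square is a fibre product. -/
theorem exists_glue {b : B} {a : A} (h : b - algebraMap A B a ∈ I.map (algebraMap A B)) :
    ∃ t : A, algebraMap A B t = b ∧ t - a ∈ I := by
  obtain ⟨c, hc⟩ := inCond_of_mem_map hA hinj hsB hs I hV h 1
  rw [mul_one] at hc
  rw [← hc] at h
  refine ⟨a + c, by rw [map_add, hc, add_sub_cancel], ?_⟩
  rw [add_sub_cancel_left]
  exact mem_of_pow_mem_map hinj I hI (n := 1) (by rwa [pow_one])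

include hA hinj hsB hs hI hV in
/-- The fibres of the extension are reduced. -/
theorem isReduced_fibre (hmax : ∀ (p : Ideal A) [p.IsPrime], I ≤ p → p.IsMaximal)
    (p : Ideal A) [p.IsPrime] : IsReduced (p.ResidueField ⊗[A] B) := by
  classical
  by_cases hp : IsRegularLocalRing (Localization.AtPrime p)
  · obtain ⟨t, ht, htC⟩ := exists_notMem_inCond hinj hsB hs p
    let f : p.ResidueField →+* p.ResidueField ⊗[A] B := Algebra.TensorProduct.includeLeftRingHom
    have hsurj : Function.Surjective f := by
      intro z
      induction z using TensorProduct.induction_on with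
      | zero => exact ⟨0, map_zero _⟩
      | tmul x b =>
        obtain ⟨a, ha⟩ := htC b
        have htne : algebraMap A p.ResidueField t ≠ 0 := by
          rwa [ne_eq, Ideal.algebraMap_residueField_eq_zero]
        refine ⟨x * (algebraMap A p.ResidueField a / algebraMap A p.ResidueField t), ?_⟩
        show (x * _) ⊗ₜ[A] (1 : B) = x ⊗ₜ[A] b
        have e : x ⊗ₜ[A] b = (x / algebraMap A p.ResidueField t) ⊗ₜ[A] (t • b) := by
          rw [TensorProduct.tmul_smul, TensorProduct.smul_tmul', Algebra.smul_def,
            mul_div_cancel₀ _ htne]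
        have e2 : t • b = a • (1 : B) := by
          rw [Algebra.smul_def, Algebra.smul_def, mul_one, ha]
        rw [e, e2, TensorProduct.tmul_smul, TensorProduct.smul_tmul', Algebra.smul_def,
          ← mul_div_assoc, ← mul_div_assoc, mul_comm x]
      | add x y hx hy =>
        obtain ⟨a, rfl⟩ := hx
        obtain ⟨b, rfl⟩ := hy
        exact ⟨a + b, map_add _ _ _⟩
    rcases subsingleton_or_nontrivial (p.ResidueField ⊗[A] B) with hsub | hnt
    · exact ⟨fun x _ => Subsingleton.elim _ _⟩
    · exact isReduced_of_injective (RingEquiv.ofBijective f ⟨f.injective, hsurj⟩).symm.toRingHom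
        (RingEquiv.injective _)
  · have hIp := hV p hp
    haveI : p.IsMaximal := hmax p hIp
    have hrad : (p.map (algebraMap A B)).IsRadical := by
      obtain ⟨t, htp, ht⟩ : ∃ t : A, t ∉ p ∧ ∀ x ∈ p, t * x ∈ I := by
        have hfin : I.minimalPrimes.Finite := Ideal.finite_minimalPrimes_of_isNoetherianRing A I
        let T := hfin.toFinset.erase p
        have hT : ∀ q ∈ T, ∃ t ∈ q, t ∉ p := fun q hq => by
          have hq' : q ≠ p ∧ q ∈ I.minimalPrimes := by simpa [T] using hq
          haveI := hq'.2.1.1
          exact SetLike.not_le_iff_exists.1 fun hle =>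
            hq'.1 ((hmax q hq'.2.1.2).eq_of_le (Ideal.IsPrime.ne_top ‹_›) hle)
        choose! t ht htp using hT
        refine ⟨∏ q ∈ T, t q, fun h => ?_, fun x hx => ?_⟩
        · obtain ⟨q, hq, hq'⟩ := (Ideal.IsPrime.prod_mem_iff).1 h
          exact htp q hq hq'
        · rw [← hI.radical, Ideal.radical_eq_sInf, Submodule.mem_sInf]
          rintro q ⟨hIq, hq⟩
          haveI := hq
          obtain ⟨m, hm, hmq⟩ := Ideal.exists_minimalPrimes_le hIq
          by_cases hmp : m = p
          · exact Ideal.mul_mem_left _ _ (hmq (hmp ▸ hx))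
          · refine Ideal.mul_mem_right _ _ (hmq ?_)
            have hmT : m ∈ T := by simp [T, hmp, hm]
            rw [← Finset.mul_prod_erase T t hmT]
            exact Ideal.mul_mem_right _ _ (ht m hmT)
      rintro c ⟨n, hn⟩
      have hmul : ∀ y ∈ p.map (algebraMap A B), algebraMap A B t * y ∈ I.map (algebraMap A B) := by
        intro y hy
        induction hy using Submodule.span_induction with
        | mem x hx =>
          obtain ⟨a, ha, rfl⟩ := hx
          rw [← map_mul]
          exact Ideal.mem_map_of_mem _ (ht a ha)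
        | zero => rw [mul_zero]; exact zero_mem _
        | add x y _ _ hx hy => rw [mul_add]; exact add_mem hx hy
        | smul r x _ hx => rw [smul_eq_mul, mul_left_comm]; exact Ideal.mul_mem_left _ _ hx
      have htc : algebraMap A B t * c ∈ I.map (algebraMap A B) := by
        refine isRadical_map hA hinj hsB hs I hI hV ⟨n + 1, ?_⟩
        rw [mul_pow, pow_succ' (algebraMap A B t) n, mul_right_comm, mul_comm]
        exact Ideal.mul_mem_left _ _ (hmul _ (pow_succ c n ▸ Ideal.mul_mem_right c _ hn))
      obtain ⟨u, v, hv, huv⟩ := (‹p.IsMaximal›).exists_inv htp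
      have hc : c = algebraMap A B u * (algebraMap A B t * c) + algebraMap A B v * c := by
        rw [← mul_assoc, ← map_mul, ← add_mul, ← map_add, huv, map_one, one_mul]
      rw [hc]
      exact add_mem (Ideal.mul_mem_left _ _ (Ideal.map_mono hIp htc))
        (Ideal.mul_mem_right _ _ (Ideal.mem_map_of_mem _ hv))
    let e : (A ⧸ p) ⊗[A] B ≃+* B ⧸ p.map (algebraMap A B) :=
      (Algebra.TensorProduct.comm A (A ⧸ p) B).toRingEquiv.trans
        (Algebra.TensorProduct.quotIdealMapEquivTensorQuot B p).symm.toRingEquiv
    haveI : IsReduced (B ⧸ p.map (algebraMap A B)) := (Ideal.isRadical_iff_quotient_reduced _).1 hrad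
    haveI : IsReduced ((A ⧸ p) ⊗[A] B) := isReduced_of_injective e.toRingHom e.injective
    let g : (A ⧸ p) ≃ₐ[A] p.ResidueField :=
      AlgEquiv.ofBijective (IsScalarTower.toAlgHom A (A ⧸ p) p.ResidueField)
        (Ideal.bijective_algebraMap_quotient_residueField p)
    let e' := Algebra.TensorProduct.congr g (AlgEquiv.refl : B ≃ₐ[A] B)
    exact isReduced_of_injective e'.symm.toRingEquiv.toRingHom e'.symm.injective

end Groth.L21.SemiCurve
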