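import Groth.Agent.L21.SemiCurve.Algebra
import Groth.Agent.S7420
import Groth.Agent.L05.SmoothCrit.Projective
import Groth.Agent.L22.ExtSh.PushCodim
import Groth.Prelude.Def_Pi1
import Groth.Agent.L18.AlgPushout
import Mathlib.AlgebraicGeometry.Noetherian
import Mathlib.AlgebraicGeometry.Morphisms.Finite
import Mathlib.AlgebraicGeometry.Morphisms.ClosedImmersion

/-!
# The conductor square of a seminormal curve on an affine open
-/

set_option autoImplicit false
set_option linter.style.haveILetI false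
set_option backward.isDefEq.respectTransparency false
set_option backward.isDefEq.respectTransparency.types false

universe u

open CategoryTheory CategoryTheory.Limits AlgebraicGeometry PrimeSpectrum

noncomputable section

namespace Groth.L21.SemiCurve

theorem mem_of_dense {R : Type u} [CommRing R] [IsNoetherianRing R] {O : Set (PrimeSpectrum R)} (hO : IsOpen O)
    (hd : Dense O) (p : PrimeSpectrum R) (hp : p.asIdeal ∈ minimalPrimes R) : p ∈ O := by
  classical
  by_contra hpO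
  have hfin : (minimalPrimes R).Finite := minimalPrimes.finite_of_isNoetherianRing R
  let T := hfin.toFinset.erase p.asIdeal
  have hT : ∀ q ∈ T, ∃ t ∈ q, t ∉ p.asIdeal := fun q hq => by
    have hq' : q ≠ p.asIdeal ∧ q ∈ minimalPrimes R := by simpa [T] using hq
    exact SetLike.not_le_iff_exists.1 fun hle => hq'.1 (le_antisymm hle (hp.2 hq'.2.1 hle))
  choose! t ht htp using hT
  let f := ∏ q ∈ T, t q
  have hf : f ∉ p.asIdeal := fun h => by
    obtain ⟨q, hq, hq'⟩ := (p.isPrime.prod_mem_iff).1 h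
    exact htp q hq hq'
  obtain ⟨q, hq, hqO⟩ := hd.exists_mem_open (PrimeSpectrum.basicOpen f).isOpen ⟨p, hf⟩
  refine hpO (((PrimeSpectrum.le_iff_specializes p q).1 ?_).mem_open hO hq)
  obtain ⟨m, hm, hmq⟩ := Ideal.exists_minimalPrimes_le (show (⊥ : Ideal R) ≤ q.asIdeal from bot_le)
  by_cases hmp : m = p.asIdeal
  · rw [hmp] at hmq; exact hmq
  · refine absurd (hmq ?_) hqO
    have hmT : m ∈ T := by
      simp only [T, Finset.mem_erase, Set.Finite.mem_toFinset]
      exact ⟨hmp, hm⟩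
    show f ∈ m
    rw [show f = ∏ q ∈ T, t q from rfl, ← Finset.mul_prod_erase T t hmT]
    exact Ideal.mul_mem_right _ _ (ht m hmT)

theorem eq_zero_of_mul {R : Type u} [CommRing R] [IsReduced R] {s b : R}
    (hs : ∀ q ∈ minimalPrimes R, s ∉ q) (h : s * b = 0) : b = 0 := by
  refine IsNilpotent.eq_zero (mem_nilradical.1 ?_)
  rw [nilradical_eq_sInf, Submodule.mem_sInf]
  rintro (P : Ideal R) hP
  haveI : Ideal.IsPrime P := hP
  obtain ⟨q, hq, hqP⟩ := Ideal.exists_minimalPrimes_le (show (⊥ : Ideal R) ≤ P from bot_le)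
  exact hqP ((hq.1.1.mem_or_mem (show s * b ∈ q from h ▸ q.zero_mem)).resolve_left (hs q hq))

theorem isIso_app_of_le {X Y : Scheme.{u}} (f : X ⟶ Y) (U : Y.Opens) [IsIso (f ∣_ U)] {V : Y.Opens} (h : V ≤ U) :
    IsIso (f.app V) := by
  have e : U.ι ''ᵁ (U.ι ⁻¹ᵁ V) = V := by
    rw [Scheme.Hom.image_preimage_eq_opensRange_inf, Scheme.Opens.opensRange_ι, inf_eq_right.2 h]
  have h1 : IsIso ((f ∣_ U).app (U.ι ⁻¹ᵁ V)) := inferInstance
  rw [morphismRestrict_app] at h1
  haveI := h1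
  have h2 : IsIso (f.app (U.ι ''ᵁ (U.ι ⁻¹ᵁ V))) := IsIso.of_isIso_comp_right (f.app (U.ι ''ᵁ (U.ι ⁻¹ᵁ V))) (X.presheaf.map (eqToHom (image_morphismRestrict_preimage f U (U.ι ⁻¹ᵁ V))).op)
  rwa [e] at h2

variable {C Cn D : Scheme.{u}} (ν : Cn ⟶ C) (d : D ⟶ C)

/-- The hypotheses of the conductor square. -/
structure Setup : Prop where
  noeth : IsLocallyNoetherian C
  reduced : IsReduced C
  dim : topologicalKrullDim C ≤ 1
  seminormal : HTop.IsSeminormal C
  finite : IsFinite ν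
  normal : Pi1.IsNormalScheme Cn
  birational : ∃ U : C.Opens, Dense (U : Set C) ∧ Dense ((ν ⁻¹ᵁ U : Cn.Opens) : Set Cn) ∧ IsIso (ν ∣_ U)
  closed : IsClosedImmersion d
  reducedSub : IsReduced D
  range : Set.range d.base = {x : C | ¬ IsRegularLocalRing (C.presheaf.stalk x)}

variable {ν d}

theorem Setup.isReduced (h : Setup ν d) : IsReduced Cn := by
  haveI : ∀ x : Cn, _root_.IsReduced (Cn.presheaf.stalk x) := fun x =>
    haveI := (h.normal x).1
    inferInstance
  exact isReduced_of_isReduced_stalk Cn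

/-- The ideal of `D` on an affine open. -/
def ideal (d : D ⟶ C) (W : C.Opens) : Ideal Γ(C, W) := RingHom.ker (d.app W).hom

theorem Setup.le_iff (h : Setup ν d) {W : C.Opens} (hW : IsAffineOpen W) (p : Ideal Γ(C, W)) [p.IsPrime] :
    ideal d W ≤ p ↔ ¬ IsRegularLocalRing (Localization.AtPrime p) := by
  haveI := h.closed
  let P : PrimeSpectrum Γ(C, W) := ⟨p, inferInstance⟩
  have hmem : hW.fromSpec P ∈ W := (hW.isoSpec.inv P).2
  letI : Algebra Γ(C, W) (C.presheaf.stalk (hW.fromSpec P)) := TopCat.Presheaf.algebra_section_stalk C.presheaf ⟨_, hmem⟩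
  haveI : IsLocalization.AtPrime (C.presheaf.stalk (hW.fromSpec P)) p := hW.isLocalization_stalk' P hmem
  let e := (IsLocalization.algEquiv p.primeCompl (Localization.AtPrime p) (C.presheaf.stalk (hW.fromSpec P))).toRingEquiv
  have hcomm : ∀ Q : Spec Γ(D, d ⁻¹ᵁ W),
      hW.fromSpec (Spec.map (d.app W) Q) = d ((hW.preimage d).fromSpec Q) := fun Q => by
    rw [← Scheme.Hom.comp_apply, ← Scheme.Hom.comp_apply, Scheme.Hom.app_eq_appLE,
      IsAffineOpen.SpecMap_appLE_fromSpec d hW (hW.preimage d) le_rfl]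
  have hrange := range_comap_of_surjective _ (d.app W).hom (d.app_surjective W hW)
  constructor
  · intro hle hreg
    obtain ⟨Q, hQ⟩ : P ∈ Set.range (PrimeSpectrum.comap (d.app W).hom) := by rw [hrange]; exact hle
    have h1 : hW.fromSpec P ∈ Set.range d.base := ⟨_, ((hcomm Q).symm.trans (congrArg hW.fromSpec hQ))⟩
    rw [h.range] at h1
    exact h1 (haveI := hreg; IsRegularLocalRing.of_ringEquiv e)
  · intro hreg
    have h1 : hW.fromSpec P ∈ Set.range d.base := by
      rw [h.range]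
      exact fun hr => hreg (haveI := hr; IsRegularLocalRing.of_ringEquiv e.symm)
    obtain ⟨y, hy⟩ := h1
    have hyW : y ∈ d ⁻¹ᵁ W := show d y ∈ W by rw [show d y = _ from hy]; exact hmem
    obtain ⟨Q, rfl⟩ : y ∈ Set.range (hW.preimage d).fromSpec := by
      rw [(hW.preimage d).range_fromSpec]; exact hyW
    have hQ : Spec.map (d.app W) Q = P := hW.fromSpec.isOpenEmbedding.injective ((hcomm Q).trans hy)
    have h2 : P ∈ Set.range (PrimeSpectrum.comap (d.app W).hom) := ⟨Q, hQ⟩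
    rw [hrange] at h2
    exact h2

theorem Setup.isRadical (h : Setup ν d) (W : C.Opens) : (ideal d W).IsRadical := by
  haveI := h.reducedSub
  rintro a ⟨n, hn⟩
  have h1 : (d.app W).hom a ^ n = 0 := (map_pow _ _ _).symm.trans hn
  exact IsNilpotent.eq_zero ⟨n, h1⟩

theorem Setup.ringKrullDim_le (h : Setup ν d) {W : C.Opens} (hW : IsAffineOpen W) :
    ringKrullDim Γ(C, W) ≤ 1 := by
  rw [← PrimeSpectrum.topologicalKrullDim_eq_ringKrullDim]
  exact (hW.fromSpec.isOpenEmbedding.isInducing.topologicalKrullDim_le).trans h.dim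

theorem Setup.isMaximal (h : Setup ν d) {W : C.Opens} (hW : IsAffineOpen W) (p : Ideal Γ(C, W)) [hp : p.IsPrime]
    (hle : ideal d W ≤ p) : p.IsMaximal := by
  haveI := h.reduced
  have hreg := (h.le_iff hW p).1 hle
  have hmin : p ∉ minimalPrimes Γ(C, W) := fun hm => by
    haveI : _root_.IsReduced (Localization.AtPrime p) :=
      isReduced_localizationPreserves p.primeCompl (Localization.AtPrime p) inferInstance
    letI := (Groth.L05.SmoothCrit.isField_atPrime_of_mem_minimalPrimes p hm).toField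
    exact hreg inferInstance
  obtain ⟨q, hq, hqp⟩ := Ideal.exists_minimalPrimes_le (show (⊥ : Ideal Γ(C, W)) ≤ p from bot_le)
  obtain ⟨m, hm, hpm⟩ := p.exists_le_maximal hp.ne_top
  by_contra hnm
  have h1 : p < m := lt_of_le_of_ne hpm fun e => hnm (e ▸ hm)
  have h2 : q < p := lt_of_le_of_ne hqp fun e => hmin (e ▸ hq)
  haveI := hq.1.1
  haveI := hm.isPrime
  let l : LTSeries (PrimeSpectrum Γ(C, W)) :=
    { length := 2
      toFun := ![⟨q, inferInstance⟩, ⟨p, hp⟩, ⟨m, inferInstance⟩]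
      step := fun i => by
        fin_cases i
        · exact h2
        · exact h1 }
  have h3 := Order.LTSeries.length_le_krullDim l
  exact absurd (h3.trans (h.ringKrullDim_le hW)) (by decide +kernel : ¬ ((2 : ℕ) : WithBot ℕ∞) ≤ 1)

/-- The algebraic hypotheses on an affine open. -/
theorem Setup.exists_birational (h : Setup ν d) {W : C.Opens} (hW : IsAffineOpen W) :
    Function.Injective (ν.app W).hom ∧ ∃ s : Γ(C, W), (∀ b, (ν.app W).hom s * b = 0 → b = 0) ∧
      ∀ b, ∃ n : ℕ, (ν.app W).hom s ^ n * b ∈ (ν.app W).hom.range := by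
  classical
  haveI := h.noeth
  haveI := h.reduced
  haveI := h.finite
  haveI := h.isReduced
  haveI : IsLocallyNoetherian Cn := LocallyOfFiniteType.isLocallyNoetherian ν
  haveI : IsNoetherianRing Γ(C, W) := IsLocallyNoetherian.component_noetherian ⟨W, hW⟩
  haveI : IsNoetherianRing Γ(Cn, ν ⁻¹ᵁ W) := IsLocallyNoetherian.component_noetherian ⟨_, hW.preimage ν⟩
  obtain ⟨U, hU, hU', hiso⟩ := h.birational
  let O : Set (PrimeSpectrum Γ(C, W)) := hW.fromSpec ⁻¹' (U : Set C)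
  have hO : IsOpen O := U.isOpen.preimage hW.fromSpec.continuous
  have hOd : Dense O := hU.preimage hW.fromSpec.isOpenEmbedding.isOpenMap
  let O' : Set (PrimeSpectrum Γ(Cn, ν ⁻¹ᵁ W)) := (hW.preimage ν).fromSpec ⁻¹' ((ν ⁻¹ᵁ U : Cn.Opens) : Set Cn)
  have hO'd : Dense O' := hU'.preimage (hW.preimage ν).fromSpec.isOpenEmbedding.isOpenMap
  have hO' : IsOpen O' := (ν ⁻¹ᵁ U).isOpen.preimage (hW.preimage ν).fromSpec.continuous
  let J := PrimeSpectrum.vanishingIdeal Oᶜ
  have hJ : ∀ P ∈ O, ¬ J ≤ P.asIdeal := fun P hP hle => by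
    have h1 : P ∈ PrimeSpectrum.zeroLocus (J : Set Γ(C, W)) := hle
    rw [PrimeSpectrum.zeroLocus_vanishingIdeal_eq_closure, hO.isClosed_compl.closure_eq] at h1
    exact h1 hP
  let T : Finset (PrimeSpectrum Γ(C, W)) :=
    ((minimalPrimes.finite_of_isNoetherianRing Γ(C, W)).preimage
      (fun P _ Q _ e => PrimeSpectrum.ext e)).toFinset ∪
    (((minimalPrimes.finite_of_isNoetherianRing Γ(Cn, ν ⁻¹ᵁ W)).preimage
      (fun P _ Q _ e => PrimeSpectrum.ext e)).image (PrimeSpectrum.comap (ν.app W).hom)).toFinset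
  have hTO : ∀ P ∈ T, P ∈ O := by
    intro P hP
    simp only [T, Finset.mem_union, Set.Finite.mem_toFinset, Set.mem_preimage, Set.mem_image] at hP
    rcases hP with hP | ⟨Q, hQ, rfl⟩
    · exact mem_of_dense hO hOd P hP
    · have h1 : (hW.preimage ν).fromSpec Q ∈ ν ⁻¹ᵁ U := mem_of_dense hO' hO'd Q hQ
      show hW.fromSpec (Spec.map (ν.app W) Q) ∈ U
      rw [← Scheme.Hom.comp_apply, Scheme.Hom.app_eq_appLE,
        IsAffineOpen.SpecMap_appLE_fromSpec ν hW (hW.preimage ν) le_rfl, Scheme.Hom.comp_apply]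
      exact h1
  obtain ⟨s, hsJ, hsT⟩ : ∃ s ∈ J, ∀ P ∈ T, s ∉ P.asIdeal := by
    by_contra hcon
    push_neg at hcon
    have hsub : (J : Set Γ(C, W)) ⊆ ⋃ P ∈ (↑T : Set (PrimeSpectrum Γ(C, W))), (P.asIdeal : Set Γ(C, W)) :=
      fun x hx => by
        obtain ⟨P, hP, hxP⟩ := hcon x hx
        exact Set.mem_iUnion₂.2 ⟨P, hP, hxP⟩
    rcases T.eq_empty_or_nonempty with hT0 | ⟨P₀, hP₀⟩
    · obtain ⟨P, hP, -⟩ := hcon 0 J.zero_mem
      rw [hT0] at hP
      exact Finset.notMem_empty P hP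
    obtain ⟨P, hP, hle⟩ :=
      (Ideal.subset_union_prime (f := fun P : PrimeSpectrum Γ(C, W) => P.asIdeal) P₀ P₀
        (fun i _ _ _ => i.isPrime)).1 hsub
    exact hJ P (hTO P hP) hle
  have hsA : ∀ q ∈ minimalPrimes Γ(C, W), s ∉ q := fun q hq => by
    haveI := hq.1.1
    refine hsT ⟨q, inferInstance⟩ ?_
    simp only [T, Finset.mem_union, Set.Finite.mem_toFinset, Set.mem_preimage, Set.mem_image]
    exact Or.inl hq
  have hsB : ∀ q ∈ minimalPrimes Γ(Cn, ν ⁻¹ᵁ W), (ν.app W).hom s ∉ q := fun q hq => by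
    haveI := hq.1.1
    refine hsT (PrimeSpectrum.comap (ν.app W).hom ⟨q, inferInstance⟩) ?_
    simp only [T, Finset.mem_union, Set.Finite.mem_toFinset, Set.mem_preimage, Set.mem_image]
    exact Or.inr ⟨_, hq, rfl⟩
  have hV : C.basicOpen s ≤ U := by
    intro x hx
    obtain ⟨P, rfl⟩ : x ∈ Set.range hW.fromSpec := by rw [hW.range_fromSpec]; exact C.basicOpen_le s hx
    by_contra hPU
    have h1 : P ∈ hW.fromSpec ⁻¹ᵁ C.basicOpen s := hx
    rw [hW.fromSpec_preimage_basicOpen] at h1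
    exact h1 ((PrimeSpectrum.mem_vanishingIdeal _ _).1 hsJ P hPU)
  haveI := hiso
  haveI : IsIso (ν.app (C.basicOpen s)) := isIso_app_of_le ν U hV
  have hbij := ConcreteCategory.bijective_of_isIso (ν.app (C.basicOpen s))
  let sB := (ν.app W).hom s
  have hle : ν ⁻¹ᵁ C.basicOpen s = Cn.basicOpen sB := Scheme.Hom.preimage_basicOpen ν s
  let rA : Γ(C, W) →+* Γ(C, C.basicOpen s) := (C.presheaf.map (homOfLE (C.basicOpen_le s)).op).hom
  let rB : Γ(Cn, ν ⁻¹ᵁ W) →+* Γ(Cn, ν ⁻¹ᵁ C.basicOpen s) :=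
    (Cn.presheaf.map (homOfLE (ν.preimage_mono (C.basicOpen_le s))).op).hom
  have hnat : ∀ a, rB ((ν.app W).hom a) = ν.app (C.basicOpen s) (rA a) := fun a =>
    (congr($(ν.naturality (homOfLE (C.basicOpen_le s)).op).hom a)).symm
  letI : Algebra Γ(C, W) Γ(C, C.basicOpen s) := rA.toAlgebra
  haveI : IsLocalization.Away s Γ(C, C.basicOpen s) := hW.isLocalization_basicOpen s
  letI : Algebra Γ(Cn, ν ⁻¹ᵁ W) Γ(Cn, ν ⁻¹ᵁ C.basicOpen s) := rB.toAlgebra
  haveI : IsLocalization.Away sB Γ(Cn, ν ⁻¹ᵁ C.basicOpen s) :=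
    (hW.preimage ν).isLocalization_of_eq_basicOpen sB (homOfLE (ν.preimage_mono (C.basicOpen_le s))) hle
  refine ⟨(injective_iff_map_eq_zero _).2 fun a ha => ?_, s,
    fun b hb => eq_zero_of_mul hsB hb, fun b => ?_⟩
  · have h1 : algebraMap Γ(C, W) Γ(C, C.basicOpen s) a = 0 := hbij.1 (by
      rw [map_zero]
      exact (hnat a).symm.trans (by rw [ha, map_zero]))
    obtain ⟨⟨_, n, rfl⟩, hn⟩ := (IsLocalization.map_eq_zero_iff (Submonoid.powers s) _ a).1 h1
    refine eq_zero_of_mul (s := s ^ n) (fun q hq hsq => hsA q hq ?_) hn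
    exact hq.1.1.mem_of_pow_mem n hsq
  · obtain ⟨z, hz⟩ := hbij.2 (rB b)
    obtain ⟨⟨a, ⟨_, n, rfl⟩⟩, hza⟩ := IsLocalization.surj (Submonoid.powers s) z
    refine ⟨n, a, ?_⟩
    have h1 : algebraMap Γ(Cn, ν ⁻¹ᵁ W) Γ(Cn, ν ⁻¹ᵁ C.basicOpen s) (sB ^ n * b) =
        algebraMap Γ(Cn, ν ⁻¹ᵁ W) Γ(Cn, ν ⁻¹ᵁ C.basicOpen s) ((ν.app W).hom a) := by
      show rB _ = rB _
      rw [map_mul, hnat a, ← show z * rA (s ^ n) = rA a from hza, map_mul, hz, ← hnat]
      simp only [sB, map_pow]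
      exact mul_comm _ _
    obtain ⟨⟨_, m, rfl⟩, hm⟩ := (IsLocalization.eq_iff_exists (Submonoid.powers sB) _).1 h1
    refine (sub_eq_zero.1 (eq_zero_of_mul (s := sB ^ m) (fun q hq hsq => hsB q hq
      (hq.1.1.mem_of_pow_mem m hsq)) ?_)).symm
    rw [mul_sub, sub_eq_zero]
    exact hm

end Groth.L21.SemiCurve
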