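import Groth.Agent.L21.SemiCurve.Chart
import Groth.Agent.L20.Pinch.Props
import Groth.Agent.L20.GeomFibre
import Groth.Agent.L18.AlgPushout
import Mathlib.AlgebraicGeometry.Morphisms.Flat
import Mathlib.AlgebraicGeometry.ResidueField

/-!
# The conductor square of a seminormal curve is a pushout
-/

set_option autoImplicit false
set_option linter.style.haveILetI false
set_option backward.isDefEq.respectTransparency false
set_option backward.isDefEq.respectTransparency.types false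
set_option maxHeartbeats 800000

universe u

open CategoryTheory CategoryTheory.Limits AlgebraicGeometry
open scoped TensorProduct

noncomputable section

namespace Groth.L21.SemiCurve

open Groth.L20.Pinch (Pair IsPinch)

variable {C Cn D : Scheme.{u}} {ν : Cn ⟶ C} {d : D ⟶ C}

theorem Setup.hyps (h : Setup ν d) {W : C.Opens} (hW : IsAffineOpen W) :
    IsNoetherianRing Γ(C, W) ∧ (ν.app W).hom.Finite ∧ _root_.IsReduced Γ(Cn, ν ⁻¹ᵁ W) ∧
      HTop.IsSeminormalRing Γ(C, W) := by
  haveI := h.noeth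
  haveI := h.finite
  haveI := h.isReduced
  exact ⟨IsLocallyNoetherian.component_noetherian ⟨W, hW⟩, ν.finite_app W hW,
    inferInstance, (Groth.Agent.S7420.result C).1.1 h.seminormal ⟨W, hW⟩⟩

/-- Elements of the upper corner which vanish in the intersection come from the ideal. -/
theorem mem_map_ideal [IsAffineHom ν] [IsClosedImmersion d] {W : C.Opens} (hW : IsAffineOpen W)
    {b : Γ(Cn, ν ⁻¹ᵁ W)} (hb : (pullback.fst ν d).app (ν ⁻¹ᵁ W) b = 0) :
    b ∈ (ideal d W).map (ν.app W).hom := by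
  let J := (ideal d W).map (ν.app W).hom
  let e : Γ(C, W) ⧸ ideal d W ≃+* Γ(D, d ⁻¹ᵁ W) :=
    RingHom.quotientKerEquivOfSurjective (d.app_surjective W hW)
  let g : Γ(D, d ⁻¹ᵁ W) →+* Γ(Cn, ν ⁻¹ᵁ W) ⧸ J :=
    (Ideal.quotientMap J (ν.app W).hom Ideal.le_comap_map).comp e.symm.toRingHom
  have sq := Groth.L18.AlgPushout.isPushout_appLE ν d (pullback.fst ν d) (pullback.snd ν d)
    (IsPullback.of_hasPullback ν d) hW
  have hcomm : ν.appLE W (ν ⁻¹ᵁ W) le_rfl ≫ CommRingCat.ofHom (Ideal.Quotient.mk J) =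
      d.appLE W (d ⁻¹ᵁ W) le_rfl ≫ CommRingCat.ofHom g := by
    rw [← Scheme.Hom.app_eq_appLE, ← Scheme.Hom.app_eq_appLE]
    ext a
    show Ideal.Quotient.mk J ((ν.app W).hom a) = g ((d.app W).hom a)
    have ha : e.symm ((d.app W).hom a) = Ideal.Quotient.mk (ideal d W) a := by
      rw [RingEquiv.symm_apply_eq]; rfl
    show _ = Ideal.quotientMap J (ν.app W).hom Ideal.le_comap_map (e.symm ((d.app W).hom a))
    rw [ha]
    rfl
  have h1 := congr($(sq.inl_desc _ _ hcomm).hom b)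
  rw [← Ideal.Quotient.eq_zero_iff_mem]
  refine h1.symm.trans ?_
  have hb' : (pullback.fst ν d).appLE (ν ⁻¹ᵁ W) (pullback.fst ν d ⁻¹ᵁ ν ⁻¹ᵁ W) le_rfl b = 0 := by
    rw [← Scheme.Hom.app_eq_appLE]; exact hb
  rw [CommRingCat.hom_comp, RingHom.comp_apply]
  exact (congrArg _ hb').trans (map_zero _)

/-- The conductor square is a pinching. -/
theorem Setup.isPinch (h : Setup ν d) :
    letI := h.closed
    IsPinch (pullback.fst ν d) (pullback.snd ν d) ν d := by
  letI := h.closed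
  haveI := h.finite
  refine ⟨pullback.condition, fun p => ?_⟩
  obtain ⟨_, ⟨W, hW, rfl⟩, hpW, -⟩ := C.isBasis_affineOpens.exists_subset_of_mem_open (Set.mem_univ p) isOpen_univ
  obtain ⟨hN, hfin, hred, hsn⟩ := h.hyps hW
  haveI := hN
  haveI := hred
  letI := (ν.app W).hom.toAlgebra
  haveI : Module.Finite Γ(C, W) Γ(Cn, ν ⁻¹ᵁ W) := hfin
  obtain ⟨hinj, s, hsB, hs⟩ := h.exists_birational hW
  have hV : ∀ (P : Ideal Γ(C, W)) [P.IsPrime], ¬ IsRegularLocalRing (Localization.AtPrime P) → ideal d W ≤ P :=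
    fun P _ hP => (h.le_iff hW P).2 hP
  let k : Pair (pullback.fst ν d) (pullback.snd ν d) := ⟨ν ⁻¹ᵁ W, d ⁻¹ᵁ W, hW.preimage ν, hW.preimage d, by
    rw [← Scheme.Hom.comp_preimage, ← Scheme.Hom.comp_preimage, pullback.condition]⟩
  have hr : ∀ a : Γ(C, W), k.r1 ((d.app W).hom a) = k.r2 ((ν.app W).hom a) := fun a => by
    show (pullback.snd ν d).appLE (d ⁻¹ᵁ W) (pullback.fst ν d ⁻¹ᵁ ν ⁻¹ᵁ W) k.eq.le (d.app W a) =
      (pullback.fst ν d).app (ν ⁻¹ᵁ W) (ν.app W a)
    rw [Scheme.Hom.app_eq_appLE, Scheme.Hom.app_eq_appLE, Scheme.Hom.app_eq_appLE,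
      ← CommRingCat.comp_apply, ← CommRingCat.comp_apply, Scheme.Hom.appLE_comp_appLE,
      Scheme.Hom.appLE_comp_appLE]
    simp only [pullback.condition]
  let φ : Γ(C, W) →+* k.R := ((d.app W).hom.prod (ν.app W).hom).codRestrict _ hr
  have hφ : Function.Bijective φ := by
    refine ⟨fun a a' e => hinj (congrArg (fun t : k.R => (k.p2 t)) e), fun t => ?_⟩
    obtain ⟨a, ha⟩ := d.app_surjective W hW (k.p1 t)
    have h0 : (pullback.fst ν d).app (ν ⁻¹ᵁ W) (k.p2 t - (ν.app W).hom a) = 0 := by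
      show k.r2 (k.p2 t - (ν.app W).hom a) = 0
      rw [map_sub, ← hr a, ← k.isFib.comm_apply, show (d.app W).hom a = k.p1 t from ha, sub_self]
    obtain ⟨a', ha', haI⟩ := exists_glue hsn hinj hsB hs (ideal d W) (h.isRadical W) hV
      (mem_map_ideal hW h0)
    refine ⟨a', k.isFib.ext ?_ ha'⟩
    show (d.app W).hom a' = k.p1 t
    rw [← show (d.app W).hom a = k.p1 t from ha, ← sub_eq_zero, ← map_sub]
    exact haI
  let Φ : k.spec ⟶ Spec Γ(C, W) := Spec.map (CommRingCat.ofHom φ)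
  haveI : IsIso (CommRingCat.ofHom φ) := (RingEquiv.ofBijective φ hφ).toCommRingCatIso.isIso_hom
  haveI : IsIso Φ := inferInstanceAs (IsIso (Spec.map _))
  have hrange : Set.range (Φ ≫ hW.fromSpec) = (W : Set C) := by
    rw [← hW.range_fromSpec]
    rw [Scheme.Hom.comp_base, TopCat.coe_comp, Set.range_comp, Set.range_eq_univ.2 Φ.surjective, Set.image_univ]
  refine ⟨k, Φ ≫ hW.fromSpec, inferInstance, by rw [hrange]; exact hpW, ?_, ?_, by rw [hrange]; rfl,
    by rw [hrange]; rfl⟩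
  · show (hW.preimage ν).fromSpec ≫ ν = Spec.map (CommRingCat.ofHom k.p2) ≫ Φ ≫ hW.fromSpec
    rw [← IsAffineOpen.SpecMap_appLE_fromSpec ν hW (hW.preimage ν) le_rfl, ← Spec.map_comp_assoc,
      ← Scheme.Hom.app_eq_appLE]
    rfl
  · show (hW.preimage d).fromSpec ≫ d = Spec.map (CommRingCat.ofHom k.p1) ≫ Φ ≫ hW.fromSpec
    rw [← IsAffineOpen.SpecMap_appLE_fromSpec d hW (hW.preimage d) le_rfl, ← Spec.map_comp_assoc,
      ← Scheme.Hom.app_eq_appLE]
    rfl

theorem Setup.isPushout (h : Setup ν d) : IsPushout (pullback.fst ν d) (pullback.snd ν d) ν d :=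
  letI := h.closed
  h.isPinch.isPushout

/-- The fibres of the normalisation are reduced. -/
theorem Setup.isReduced_fiber (h : Setup ν d) (x : C) : AlgebraicGeometry.IsReduced (ν.fiber x) := by
  haveI := h.finite
  obtain ⟨_, ⟨W, hW, rfl⟩, hxW, -⟩ := C.isBasis_affineOpens.exists_subset_of_mem_open (Set.mem_univ x) isOpen_univ
  obtain ⟨P, rfl⟩ : x ∈ Set.range hW.fromSpec := by rw [hW.range_fromSpec]; exact hxW
  obtain ⟨hN, hfin, hred, hsn⟩ := h.hyps hW
  haveI := hN
  haveI := hred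
  letI := (ν.app W).hom.toAlgebra
  haveI : Module.Finite Γ(C, W) Γ(Cn, ν ⁻¹ᵁ W) := hfin
  obtain ⟨hinj, s, hsB, hs⟩ := h.exists_birational hW
  let K := P.asIdeal.ResidueField
  haveI : _root_.IsReduced (K ⊗[Γ(C, W)] Γ(Cn, ν ⁻¹ᵁ W)) :=
    isReduced_fibre hsn hinj hsB hs (ideal d W) (h.isRadical W) (fun Q _ hQ => (h.le_iff hW Q).2 hQ)
      (fun Q _ hQ => h.isMaximal hW Q hQ) P.asIdeal
  let gK : Spec (CommRingCat.of K) ⟶ C := Spec.map (CommRingCat.ofHom (algebraMap Γ(C, W) K)) ≫ hW.fromSpec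
  have hgK : gK (IsLocalRing.closedPoint K) = hW.fromSpec P := by
    rw [show gK (IsLocalRing.closedPoint K) = hW.fromSpec (PrimeSpectrum.comap (algebraMap Γ(C, W) K)
      (IsLocalRing.closedPoint K)) from rfl]
    congr 1
    refine PrimeSpectrum.ext ?_
    show (IsLocalRing.maximalIdeal K).comap _ = _
    rw [IsLocalRing.maximalIdeal_eq_bot, ← RingHom.ker_eq_comap_bot, Ideal.ker_algebraMap_residueField]
  have h0 : IsPullback (Spec.map (ν.app W)) (hW.preimage ν).fromSpec hW.fromSpec ν := by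
    refine IsOpenImmersion.isPullback _ _ _ _ ?_ ?_
    · rw [Scheme.Hom.app_eq_appLE, IsAffineOpen.SpecMap_appLE_fromSpec ν hW (hW.preimage ν) le_rfl]
    · rw [IsAffineOpen.opensRange_fromSpec, IsAffineOpen.opensRange_fromSpec]
  have h1 := (isPullback_SpecMap_of_isPushout _ _ _ _
    (CommRingCat.isPushout_tensorProduct Γ(C, W) K Γ(Cn, ν ⁻¹ᵁ W))).flip
  have h2 := h1.paste_horiz h0.flip
  rw [← hgK]
  let l := pullback.lift (f := ν) (g := C.fromSpecResidueField (gK (IsLocalRing.closedPoint K)))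
    ((Spec.map (CommRingCat.ofHom
      (Algebra.TensorProduct.includeRight (R := Γ(C, W)) (A := K) (B := Γ(Cn, ν ⁻¹ᵁ W))).toRingHom)) ≫
      (hW.preimage ν).fromSpec)
    (Spec.map (CommRingCat.ofHom (Algebra.TensorProduct.includeLeftRingHom (R := Γ(C, W)) (A := K) (B := Γ(Cn, ν ⁻¹ᵁ W)))) ≫
      Spec.map (Scheme.descResidueField (Scheme.stalkClosedPointTo gK)))
    (by rw [Category.assoc, Category.assoc, Scheme.descResidueField_stalkClosedPointTo_fromSpecResidueField]; exact h2.w)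
  have hl : IsPullback l (Spec.map (CommRingCat.ofHom (Algebra.TensorProduct.includeLeftRingHom (R := Γ(C, W)) (A := K) (B := Γ(Cn, ν ⁻¹ᵁ W)))))
      (ν.fiberToSpecResidueField _) (Spec.map (Scheme.descResidueField (Scheme.stalkClosedPointTo gK))) := by
    refine IsPullback.of_right ?_ (pullback.lift_snd _ _ _) (IsPullback.of_hasPullback ν _)
    rw [pullback.lift_fst, Scheme.descResidueField_stalkClosedPointTo_fromSpecResidueField]
    exact h2
  let σ := Spec.map (Scheme.descResidueField (Scheme.stalkClosedPointTo gK))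
  haveI : Flat σ := by
    refine (HasRingHomProperty.Spec_iff (P := @Flat)).2 ?_
    algebraize [(Scheme.descResidueField (Scheme.stalkClosedPointTo gK)).hom]
    exact inferInstanceAs (Module.Flat (C.residueField _) K)
  haveI : Surjective σ := ⟨fun z => ⟨IsLocalRing.closedPoint K,
    Subsingleton.elim (α := PrimeSpectrum (C.residueField (gK (IsLocalRing.closedPoint K)))) _ z⟩⟩
  haveI : Flat l := MorphismProperty.of_isPullback (P := @Flat) hl.flip inferInstance
  haveI : Surjective l := MorphismProperty.of_isPullback (P := @Surjective) hl.flip inferInstance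
  exact Groth.L20.isReduced_of_surjective_of_flat l

end Groth.L21.SemiCurve
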